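import Mathlib
import Cfsg.Agent.Lib.Compute.OutFinal6
import Cfsg.Agent.Lib.Sporadic.RuOut.Data

/-! The kernel checks for the outer automorphism group of the Rudvalis group. -/

set_option autoImplicit false
set_option maxRecDepth 100000

namespace Cfsg.Agent.Lib.Sporadic.RuOut.Check

open Cfsg.Agent.Lib.Compute.PermCert Cfsg.Agent.Lib.Compute.OutChain Cfsg.Agent.Lib.Compute.OutFinal
open Cfsg.Agent.Lib.Compute.OutFinal2 Cfsg.Agent.Lib.Compute.OutFinal4 Cfsg.Agent.Lib.Compute.OutFinal5
open Cfsg.Agent.Lib.Compute.OutFinal6
open Cfsg.Agent.Lib.Sporadic.RuOut.Data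

local notation "W" => (12 : Nat)
local notation "M" => (4095 : Nat)
local notation "NN" => (4060 : Nat)
local notation "TW" => (24 : Nat)
local notation "TM" => (16777215 : Nat)
local notation "DD" => (12 : Nat)

theorem vP : validB W M NN piE = true := by decide +kernel
theorem vR : validB W M NN rhoE = true := by decide +kernel
theorem vY : validB W M NN yE = true := by decide +kernel
theorem vZ : validB W M NN zE = true := by decide +kernel
theorem vV : vsE.all (validB W M NN) = true := by decide +kernel
theorem chainA_ok : chkChainF W M NN TW TM DD (lrlvA.map Prod.fst) = true := by decide +kernel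
theorem chainB_ok : chkChainF W M NN TW TM DD (lrlvB.map Prod.fst) = true := by decide +kernel
theorem ordA : ordC (lrlvA.map Prod.fst) = 145926144000 := by decide +kernel
theorem ordB : ordC (lrlvB.map Prod.fst) = 145926144000 := by decide +kernel
theorem ruA : rulesOK NN (gt W M piE) [] lrlvA = true := by decide +kernel
theorem ruB : rulesOK NN (gt W M zE) [] lrlvB = true := by decide +kernel
theorem sA : searchF W M NN TW TM DD (iterF (gt W M piE) 2)
    (conjLeafV W M piE rhoE vsE 13 (baseL (lrlvA.map Prod.fst))) lrlvA id id = true := by decide +kernel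
theorem sB : searchF W M NN TW TM DD (gt W M zE)
    (finLeaf1r W M piE rhoE yE kills (baseL (lrlvB.map Prod.fst))) lrlvB id id = true := by decide +kernel
theorem kF : killsOK NN DD (gt W M piE) (gt W M rhoE) (gt W M yE) kills = true := by decide +kernel
theorem powP : allN (fun i => Nat.beq (iterF (gt W M piE) 13 i) i) NN DD = true := by decide +kernel
theorem relR : allN (fun i => Nat.beq (gt W M rhoE (gt W M piE i))
    (iterF (gt W M piE) 2 (gt W M rhoE i))) NN DD = true := by decide +kernel
theorem commYZ : allN (fun i => Nat.beq (gt W M yE (gt W M zE i)) (gt W M zE (gt W M yE i))) NN DD = true := by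
  decide +kernel
theorem zR : allN (fun i => Nat.beq (gt W M zE i) (iterF (gt W M rhoE) 2 i)) NN DD = true := by decide +kernel
theorem commV0 : allN (fun i => Nat.beq (gt W M v0E (gt W M piE i)) (gt W M piE (gt W M v0E i))) NN DD = true := by
  decide +kernel
theorem commV1 : allN (fun i => Nat.beq (gt W M v1E (gt W M piE i)) (gt W M piE (gt W M v1E i))) NN DD = true := by
  decide +kernel
theorem commV2 : allN (fun i => Nat.beq (gt W M v2E (gt W M piE i)) (gt W M piE (gt W M v2E i))) NN DD = true := by
  decide +kernel
theorem commV3 : allN (fun i => Nat.beq (gt W M v3E (gt W M piE i)) (gt W M piE (gt W M v3E i))) NN DD = true := by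
  decide +kernel

end Cfsg.Agent.Lib.Sporadic.RuOut.Check
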