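import Mathlib
import Cfsg.Agent.Lib.Compute.Ru.Main
import Cfsg.Agent.Lib.Sporadic.RuOut.Check

/-! The outer automorphism group of the permutation model of the Rudvalis group. -/

set_option autoImplicit false
set_option maxRecDepth 100000

namespace Cfsg.Agent.Lib.Sporadic.RuOut.Main

open Cfsg Cfsg.Agent.Lib.Compute.PermCert Cfsg.Agent.Lib.Compute.OutChain Cfsg.Agent.Lib.Compute.OutFinal
  Cfsg.Agent.Lib.Compute.OutFinal4 Cfsg.Agent.Lib.Compute.OutFinal5 Cfsg.Agent.Lib.Compute.OutFinal6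
  Cfsg.Agent.Lib.Compute.OutFinal2 Cfsg.Agent.Lib.Compute.PermOut
  Cfsg.Agent.Lib.Compute.Ru.Defs Cfsg.Agent.Lib.Compute.Ru.Main Cfsg.Agent.Lib.Compute.Ru.Check1
  Cfsg.Agent.Lib.Sporadic.RuOut.Data Cfsg.Agent.Lib.Sporadic.RuOut.Check

theorem hd : 4060 ≤ 2 ^ 12 := by norm_num

theorem wP : wordCheck 12 4095 4060 gensP [3, 3, 1, 1, 3, 1, 1, 2, 0, 3, 1, 2, 0, 0, 3, 1, 2, 0, 3, 1, 2, 1] piE = true := by decide +kernel
theorem wR : wordCheck 12 4095 4060 gensP [3, 1, 3, 3, 0, 3, 0, 3, 3, 1, 3, 0, 0, 3, 1, 2, 1, 2, 2, 0, 0, 3, 0] rhoE = true := by decide +kernel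
theorem wY : wordCheck 12 4095 4060 gensP [0, 0, 0, 0, 0, 3, 3, 0, 3, 1, 3, 3, 3, 3, 3, 0, 2, 2, 0, 0, 0, 3] yE = true := by decide +kernel
theorem wV0 : wordCheck 12 4095 4060 gensP [] v0E = true := by decide +kernel
theorem wV1 : wordCheck 12 4095 4060 gensP [1, 1, 3, 0, 0, 0, 0, 2, 1, 2, 0, 3, 0, 3, 0, 3, 1, 3, 0, 3, 1, 1, 2, 0] v1E = true := by decide +kernel
theorem wV2 : wordCheck 12 4095 4060 gensP [1, 2, 0, 3, 1, 2, 2, 0, 3, 1, 2, 1, 2, 1, 2, 2, 0, 3, 0, 0, 0, 2, 1, 2, 0] v2E = true := by decide +kernel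
theorem wV3 : wordCheck 12 4095 4060 gensP [2, 2, 1, 1, 1, 3, 1, 3, 3, 3, 1, 3, 1, 3, 3, 3, 0, 0, 0, 3, 3, 0, 3, 3] v3E = true := by decide +kernel

theorem mP : permOf 12 4095 4060 piE ∈ P := wordCheck_mem valid_P vP wP
theorem mR : permOf 12 4095 4060 rhoE ∈ P := wordCheck_mem valid_P vR wR
theorem mY : permOf 12 4095 4060 yE ∈ P := wordCheck_mem valid_P vY wY

theorem hgens {lr : List (Lv × Rule)} (h : hdG (lr.map Prod.fst) = [piE, rhoE, yE]) :
    genGroup 12 4095 4060 (hdG (lr.map Prod.fst)) ≤ P := by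
  rw [h]
  refine (Subgroup.closure_le _).mpr ?_
  rintro _ ⟨e, he, rfl⟩
  have he' : e ∈ [piE, rhoE, yE] := he
  simp only [List.mem_cons, List.not_mem_nil, or_false] at he'
  rcases he' with rfl | rfl | rfl
  · exact mP
  · exact mR
  · exact mY

theorem hA : ChainFor 12 4095 4060 24 16777215 P (lrlvA.map Prod.fst) :=
  ChainFor.of_fast hd chainA_ok (hgens rfl) (by rw [ordA, card_P])

theorem hB : ChainFor 12 4095 4060 24 16777215 P (lrlvB.map Prod.fst) :=
  ChainFor.of_fast hd chainB_ok (hgens rfl) (by rw [ordB, card_P])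

instance factP : Fact (Nat.Prime 13) := ⟨by norm_num⟩

theorem hpow : permOf 12 4095 4060 piE ^ 13 = 1 := pow_of_check vP hd powP

theorem hvs : ∀ v ∈ vsE, validB 12 4095 4060 v = true ∧ permOf 12 4095 4060 v ∈ P ∧
    permOf 12 4095 4060 v * permOf 12 4095 4060 piE = permOf 12 4095 4060 piE * permOf 12 4095 4060 v := by
  have hv : ∀ e ∈ vsE, validB 12 4095 4060 e = true := fun e he => List.all_eq_true.mp vV e he
  intro v he
  have hval := hv v he
  refine ⟨hval, ?_, ?_⟩
  · simp only [vsE, List.mem_cons, List.not_mem_nil, or_false] at he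
    rcases he with rfl | rfl | rfl | rfl
    · exact wordCheck_mem valid_P hval wV0
    · exact wordCheck_mem valid_P hval wV1
    · exact wordCheck_mem valid_P hval wV2
    · exact wordCheck_mem valid_P hval wV3
  · simp only [vsE, List.mem_cons, List.not_mem_nil, or_false] at he
    rcases he with rfl | rfl | rfl | rfl
    · exact comm_of_check hval vP hd commV0
    · exact comm_of_check hval vP hd commV1
    · exact comm_of_check hval vP hd commV2
    · exact comm_of_check hval vP hd commV3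

/-- The outer automorphism group of the permutation group. -/
theorem card_out : Nat.card (Out P) = 1 := by
  refine card_out_one_ratC (p := 13) (r := 2) (zk := 2) (pe := piE) (re := rhoE) (ye := yE) (ze := zE)
    (kills := kills) hB hd rfl vP vR vY ?_ hpow ?_ ?_ ?_ ?_ ?_ ?_ ?_ kF
  · rw [card_P]; norm_num
  · exact ne_one_of_point vP (i := 1) (by norm_num) (by decide +kernel)
  · exact rel_of_check vP vR hd relR
  · exact hexp_of_check (by norm_num) (by decide)
  · refine eq_of_check (f := gt 12 4095 zE) (g := iterF (gt 12 4095 rhoE) 2) (fun i => ?_) (fun i => ?_) hd zR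
    · exact gt_eq vZ i
    · rw [iterF_eq, iter_eq (gt_eq vR)]
  · exact comm_of_check vY vZ hd commYZ
  · exact hconjV_of_search hA hd vP vR mP mR hvs hpow ruA sA
  · intro c hc hcz
    exact search_use hB hd (gt_eq vZ) (gt_eq vZ) ruB sB c hc hcz

end Cfsg.Agent.Lib.Sporadic.RuOut.Main
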